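import Groth.Agent.Lib.Helper6.PolyHtpy.Weight

set_option linter.unusedSectionVars false
set_option linter.unusedVariables false
set_option linter.unusedSimpArgs false
set_option autoImplicit false
set_option linter.style.haveILetI false
set_option maxHeartbeats 400000

/-!
# Cartan's formula for a de Rham-type differential pinned on a set of closed generators
-/

open exteriorPower

namespace Groth.Agent.Lib.Helper6.LogDR

open Groth.Agent.Lib.Helper6.DeRhamQuot Groth.Agent.Lib.Helper6.DeRhamGen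
open Groth.Agent.Lib.Helper6.Poincare

universe v u

variable {R : Type v} {A M : Type u} [CommRing R] [CommRing A] [Algebra R A]
  [AddCommGroup M] [Module A M] [Module R M] [IsScalarTower R A M]

/-- the generators `b₀ • e₁ ∧ … ∧ e_p` with all `e_k` in `G` -/
def genSet (G : Set M) (p : ℕ) : Set ↥(⋀[A]^p M) :=
  {ζ | ∃ (b₀ : A) (e : Fin p → M), (∀ k, e k ∈ G) ∧ ζ = b₀ • ιMulti A p e}

variable (δ' : Derivation R A M) (G : Set M)
  (d : ∀ p : ℕ, ↥(⋀[A]^p M) →ₗ[R] ↥(⋀[A]^(p + 1) M))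
  (hdd : ∀ (p : ℕ) (z : ↥(⋀[A]^p M)), d (p + 1) (d p z) = 0)
  (hrule : ∀ (p : ℕ) (b₀ : A) (e : Fin p → M), (∀ k, e k ∈ G) →
    d p (b₀ • ιMulti A p e) = ιMulti A (p + 1) (Fin.cons (δ' b₀) e))
  (hgen : ∀ (p : ℕ) (ζ : ↥(⋀[A]^p M)), ζ ∈ AddSubmonoid.closure (genSet (A := A) G p))

include hrule hgen in
theorem d_smul' (q : ℕ) (x : A) (ζ : ↥(⋀[A]^q M)) :
    d q (x • ζ) = wedgeL q (δ' x) ζ + x • d q ζ := by
  have hmem := hgen q ζ
  induction hmem using AddSubmonoid.closure_induction with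
  | mem y hy =>
    obtain ⟨b₀, e, he, rfl⟩ := hy
    rw [smul_smul, hrule q _ e he, hrule q _ e he, Derivation.leibniz, ιMulti_cons_add,
      ιMulti_cons_smul, ιMulti_cons_smul, wedgeL_smul_ιMulti]
    abel
  | zero => simp
  | add y z _ _ hy hz =>
    rw [smul_add, map_add, hy, hz, map_add, map_add, smul_add]
    abel

include hrule hgen in
theorem d_wedgeL' (q : ℕ) (g : M) (hg : g ∈ G) (ζ : ↥(⋀[A]^q M)) :
    d (q + 1) (wedgeL q g ζ) = - wedgeL (q + 1) g (d q ζ) := by
  have hmem := hgen q ζ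
  induction hmem using AddSubmonoid.closure_induction with
  | mem y hy =>
    obtain ⟨b₀, e, he, rfl⟩ := hy
    have h1 : ∀ k, (Fin.cons g e : Fin (q + 1) → M) k ∈ G := by
      intro k
      refine Fin.cases ?_ (fun j => ?_) k
      · simpa using hg
      · simpa using he j
    rw [wedgeL_smul_ιMulti, hrule (q + 1) _ _ h1, hrule q _ e he, wedgeL_ιMulti,
      ιMulti_cons_cons_swap]
  | zero => simp
  | add y z _ _ hy hz => rw [map_add, map_add, hy, hz, map_add, map_add, neg_add]

variable (φ : Module.Dual A M)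

include hrule hgen in
theorem lieS_zero_wedgeL' (g : M) (hg : g ∈ G) (η : ↥(⋀[A]^0 M)) :
    lieS d φ 0 (wedgeL 0 g η) = wedgeL 0 (δ' (φ g)) η + wedgeL 0 g (lie0 d φ η) := by
  rw [lieS_apply, lie0_apply, contrP_wedgeL_zero, d_smul' δ' G d hrule hgen,
    d_wedgeL' δ' G d hrule hgen 0 g hg, map_neg, contrP_wedgeL_succ]
  abel

include hrule hgen in
theorem lieS_succ_wedgeL' (q : ℕ) (g : M) (hg : g ∈ G) (η : ↥(⋀[A]^(q + 1) M)) :
    lieS d φ (q + 1) (wedgeL (q + 1) g η)
      = wedgeL (q + 1) (δ' (φ g)) η + wedgeL (q + 1) g (lieS d φ q η) := by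
  rw [lieS_apply, lieS_apply, contrP_wedgeL_succ, map_sub, d_smul' δ' G d hrule hgen,
    d_wedgeL' δ' G d hrule hgen _ g hg, d_wedgeL' δ' G d hrule hgen _ g hg, map_neg,
    contrP_wedgeL_succ, map_add]
  abel

include hdd in
theorem d_lie' (q : ℕ) (η : ↥(⋀[A]^q M)) : d q (lie d φ q η) = lie d φ (q + 1) (d q η) := by
  cases q with
  | zero =>
    show d 0 (lie0 d φ η) = lieS d φ 0 (d 0 η)
    rw [lieS_apply, lie0_apply, hdd, map_zero, add_zero]
  | succ q =>
    show d (q + 1) (lieS d φ q η) = lieS d φ (q + 1) (d (q + 1) η)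
    rw [lieS_apply, lieS_apply, map_add, hdd, zero_add, hdd, map_zero, add_zero]

variable {σ : Type*} (w : σ → M) (hw : ∀ i, w i ∈ G) (n : σ → ℕ)
  (hφ : ∀ i, δ' (φ (w i)) = (n i : A) • w i)

include hrule hgen hw hφ in
/-- the Lie derivative on weighted generator forms -/
theorem lie_logweight : ∀ (q : ℕ) (s : Fin q → σ) (f : A),
    lie d φ q (f • ιMulti A q (fun j => w (s j)))
      = (φ (δ' f) + ((∑ j, n (s j) : ℕ) : A) * f) • ιMulti A q (fun j => w (s j)) := by
  intro q
  induction q with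
  | zero =>
    intro s f
    show lie0 d φ _ = _
    have h0 : ∀ k, (fun j : Fin 0 => w (s j)) k ∈ G := fun k => Fin.elim0 k
    rw [lie0_apply, hrule 0 f _ h0, ← wedgeL_ιMulti, contrP_wedgeL_zero]
    simp
  | succ q ih =>
    intro s f
    set v : Fin (q + 1) → M := fun j => w (s j) with hv
    have e0 : ιMulti A (q + 1) v = wedgeL q (w (s 0)) (ιMulti A q (Fin.tail v)) := by
      rw [wedgeL_ιMulti]
      congr 1
      exact (Fin.cons_self_tail v).symm
    have e1 : f • ιMulti A (q + 1) v = wedgeL q (w (s 0)) (f • ιMulti A q (Fin.tail v)) := by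
      rw [LinearMap.map_smul, ← e0]
    have h2 : Fin.tail v = fun j : Fin q => w (s j.succ) := rfl
    have hih := ih (fun j => s j.succ) f
    have key : lie d φ (q + 1) (wedgeL q (w (s 0)) (f • ιMulti A q (Fin.tail v)))
        = wedgeL q (δ' (φ (w (s 0)))) (f • ιMulti A q (Fin.tail v))
          + wedgeL q (w (s 0)) (lie d φ q (f • ιMulti A q (Fin.tail v))) := by
      cases q with
      | zero => exact lieS_zero_wedgeL' δ' G d hrule hgen φ (w (s 0)) (hw _) _
      | succ q => exact lieS_succ_wedgeL' δ' G d hrule hgen φ q (w (s 0)) (hw _) _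
    rw [e1, key, hφ, wedgeL_smul_left, h2, hih, LinearMap.map_smul,
      LinearMap.map_smul, ← h2, ← e0, smul_smul, ← add_smul]
    congr 1
    rw [Fin.sum_univ_succ]
    push_cast
    ring

end Groth.Agent.Lib.Helper6.LogDR
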