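import Groth.Agent.Lib.Helper6.LogDR.Cartan

set_option linter.unusedSectionVars false
set_option linter.unusedVariables false
set_option linter.unusedSimpArgs false
set_option autoImplicit false
set_option linter.style.haveILetI false
set_option maxHeartbeats 400000

/-!
# Closedness of wedges of `d`-anticommuting one-forms
-/

open exteriorPower

namespace Groth.Agent.Lib.Helper6.LogDR

open Groth.Agent.Lib.Helper6.DeRhamQuot Groth.Agent.Lib.Helper6.DeRhamGen
open Groth.Agent.Lib.Helper6.Poincare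

universe v u

variable {R : Type v} {A M : Type u} [CommRing R] [CommRing A] [Algebra R A]
  [AddCommGroup M] [Module A M] [Module R M] [IsScalarTower R A M]

omit [Module R M] [IsScalarTower R A M] [Algebra R A] [CommRing R] in
theorem wedgeL_wedgeL_self (q : ℕ) (g : M) (ζ : ↥(⋀[A]^q M)) :
    wedgeL (q + 1) g (wedgeL q g ζ) = 0 := by
  apply Subtype.ext
  rw [coe_wedgeL, coe_wedgeL, ← mul_assoc, ExteriorAlgebra.ι_sq_zero, zero_mul]
  rfl

variable (δ' : Derivation R A M) (G : Set M)
  (d : ∀ p : ℕ, ↥(⋀[A]^p M) →ₗ[R] ↥(⋀[A]^(p + 1) M))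
  (hrule : ∀ (p : ℕ) (b₀ : A) (e : Fin p → M), (∀ k, e k ∈ G) →
    d p (b₀ • ιMulti A p e) = ιMulti A (p + 1) (Fin.cons (δ' b₀) e))
  (hgen : ∀ (p : ℕ) (ζ : ↥(⋀[A]^p M)), ζ ∈ AddSubmonoid.closure (genSet (A := A) G p))

/-- one-forms anticommuting with `d` -/
def antiSet : Set M :=
  {g | ∀ (q : ℕ) (ζ : ↥(⋀[A]^q M)), d (q + 1) (wedgeL q g ζ) = - wedgeL (q + 1) g (d q ζ)}

include hrule hgen in
theorem mem_antiSet_of_mem (g : M) (hg : g ∈ G) : g ∈ antiSet d :=
  fun q ζ => d_wedgeL' δ' G d hrule hgen q g hg ζ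

include hrule hgen in
theorem pow_smul_mem_antiSet (x : A) (hx : δ' x ∈ G) (k : ℕ) : (x ^ k • δ' x) ∈ antiSet d := by
  intro q ζ
  rw [wedgeL_smul_left, d_smul' δ' G d hrule hgen, d_wedgeL' δ' G d hrule hgen q _ hx,
    Derivation.leibniz_pow, ← Nat.cast_smul_eq_nsmul A, wedgeL_smul_left, wedgeL_smul_left,
    wedgeL_wedgeL_self, smul_zero, smul_zero, zero_add, wedgeL_smul_left, smul_neg]

omit [Module R M] [IsScalarTower R A M] [Algebra R A] [CommRing R] in
theorem ιMulti_cons_zero (q : ℕ) (m : Fin q → M) :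
    ιMulti A (q + 1) (Fin.cons (0 : M) m : Fin (q + 1) → M) = 0 := by
  have := ιMulti_cons_smul q (0 : A) (0 : M) m
  rw [zero_smul, zero_smul] at this
  exact this

include hrule in
theorem d_ιMulti_antiSet : ∀ (q : ℕ) (e : Fin q → M), (∀ k, e k ∈ antiSet d) →
    d q (ιMulti A q e) = 0 := by
  intro q
  induction q with
  | zero =>
    intro e _
    have := hrule 0 1 e (fun k => Fin.elim0 k)
    rw [one_smul, Derivation.map_one_eq_zero, ιMulti_cons_zero] at this
    exact this
  | succ q ih =>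
    intro e he
    have e0 : ιMulti A (q + 1) e = wedgeL q (e 0) (ιMulti A q (Fin.tail e)) := by
      rw [wedgeL_ιMulti]
      congr 1
      exact (Fin.cons_self_tail e).symm
    rw [e0, he 0 q, ih (Fin.tail e) (fun k => he k.succ), map_zero, neg_zero]

include hrule hgen in
/-- a `δ'`-constant multiple of a wedge of anticommuting one-forms is closed -/
theorem d_smul_ιMulti_antiSet (q : ℕ) (e : Fin q → M) (he : ∀ k, e k ∈ antiSet d) (c : A)
    (hc : δ' c = 0) : d q (c • ιMulti A q e) = 0 := by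
  rw [d_smul' δ' G d hrule hgen, hc, d_ιMulti_antiSet δ' G d hrule q e he, smul_zero, add_zero]
  have := wedgeL_smul_left q (0 : A) (0 : M) (ιMulti A q e)
  rw [zero_smul, zero_smul] at this
  exact this

end Groth.Agent.Lib.Helper6.LogDR
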