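import Groth.Agent.Lib.Helper6.LogDR.Main

set_option linter.unusedSectionVars false
set_option linter.unusedVariables false
set_option linter.unusedSimpArgs false
set_option autoImplicit false
set_option linter.style.haveILetI false
set_option maxHeartbeats 400000

/-!
# Logarithmic de Rham cohomology of affine space in characteristic `p`: the final statement
-/

open exteriorPower MvPolynomial

namespace Groth.Agent.Lib.Helper6.LogDR

universe u

variable (p : ℕ) [Fact p.Prime] {R : Type u} [CommRing R] [CharP R p] {n r : ℕ} (hr : r ≤ n)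
  {L : Type u} [AddCommGroup L] [Module (MvPolynomial (Fin n) R) L] [Module R L]
  [IsScalarTower R (MvPolynomial (Fin n) R) L]
  (ι : (Ω[MvPolynomial (Fin n) R⁄R]) →ₗ[MvPolynomial (Fin n) R] L) (dl : Fin r → L)
  (hL : LogDiff.IsLog (KaehlerDifferential.D R (MvPolynomial (Fin n) R))
      (fun i : Fin r => (MvPolynomial.X (Fin.castLE hr i) : MvPolynomial (Fin n) R)) ι dl)
  (d : ∀ q : ℕ, ↥(⋀[MvPolynomial (Fin n) R]^q L) →ₗ[R] ↥(⋀[MvPolynomial (Fin n) R]^(q + 1) L))
  (hd : DeRham.IsDiff (ι.compDer (KaehlerDifferential.D R (MvPolynomial (Fin n) R))) d)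
  (hlog : LogDiff.IsLogRule (KaehlerDifferential.D R (MvPolynomial (Fin n) R)) ι dl d)
  (w : Fin n → L)

theorem sum_conv (a : ℕ) (e : Finset (Fin n) → ↥(⋀[MvPolynomial (Fin n) R]^a L))
    (he : ∀ (s : Finset (Fin n)) (hs : s.card = a),
      e s = exteriorPower.ιMulti (MvPolynomial (Fin n) R) a (fun j => w (s.orderEmbOfFin hs j)))
    (g : Finset (Fin n) → MvPolynomial (Fin n) R) :
    ∑ s ∈ Finset.powersetCard a Finset.univ, expand p (g s) • e s
      = ∑ S : Set.powersetCard (Fin n) a, expand p (g S.val) • eF (R := R) w a S := by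
  rw [Finset.sum_subtype (Finset.powersetCard a Finset.univ)
    (p := fun s => s ∈ Set.powersetCard (Fin n) a) (fun s => by simp [Set.powersetCard.mem_iff])]
  refine Finset.sum_congr rfl fun S _ => ?_
  rw [he S.val S.prop]
  rfl

include hL hd hlog in
theorem main (a : ℕ) (hw : ∀ i : Fin r, w (Fin.castLE hr i) = dl i)
    (hw' : ∀ ν : Fin n, r ≤ (ν : ℕ) → w ν = ι (((MvPolynomial.X ν : MvPolynomial (Fin n) R) ^ (p - 1)) •
      KaehlerDifferential.D R (MvPolynomial (Fin n) R) (MvPolynomial.X ν)))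
    (e : Finset (Fin n) → ↥(⋀[MvPolynomial (Fin n) R]^a L))
    (he : ∀ (s : Finset (Fin n)) (hs : s.card = a),
      e s = exteriorPower.ιMulti (MvPolynomial (Fin n) R) a (fun j => w (s.orderEmbOfFin hs j))) :
    (∀ ω, ω ∈ DeRham.cocycles d a ↔
      ∃ (g : Finset (Fin n) → MvPolynomial (Fin n) R) (η : ↥(⋀[MvPolynomial (Fin n) R]^a L)),
        η ∈ DeRham.coboundaries d a ∧
          ω = η + ∑ s ∈ Finset.powersetCard a Finset.univ, MvPolynomial.expand p (g s) • e s) ∧
    (∀ g : Finset (Fin n) → MvPolynomial (Fin n) R,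
      (∑ s ∈ Finset.powersetCard a Finset.univ, MvPolynomial.expand p (g s) • e s)
          ∈ DeRham.coboundaries d a →
        ∀ s ∈ Finset.powersetCard a (Finset.univ : Finset (Fin n)), g s = 0) := by
  have hwk : ∀ ν, w ν = kap R p r ν • wt ι dl ν := by
    intro ν
    unfold kap wt
    by_cases h : (ν : ℕ) < r
    · rw [if_pos h, dif_pos h, one_smul]
      exact hw ⟨ν, h⟩
    · rw [if_neg h, dif_neg h, hw' ν (by omega), map_smul]
  refine ⟨fun ω => ⟨fun hω => ?_, ?_⟩, ?_⟩
  · obtain ⟨ω', h1, h2⟩ := exists_reduced p hr ι dl hL d hd hlog a ω (LinearMap.mem_ker.1 hω)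
    obtain ⟨g', hg'⟩ := kernel_char p hr ι dl hL d hd hlog w hwk a ω' h2
    refine ⟨fun s => if h : s.card = a then g' ⟨s, Set.powersetCard.mem_iff.2 h⟩ else 0,
      ω - ω', h1, ?_⟩
    rw [sum_conv p w a e he]
    have : ∀ S : Set.powersetCard (Fin n) a,
        (if h : S.val.card = a then g' ⟨S.val, Set.powersetCard.mem_iff.2 h⟩ else 0) = g' S :=
      fun S => by
        rw [dif_pos (Set.powersetCard.mem_iff.1 S.prop)]
    simp only [this]
    rw [← hg']
    abel
  · rintro ⟨g, η, hη, rfl⟩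
    show d a _ = 0
    rw [map_add, d_of_mem_coboundaries ι d hd a η hη, zero_add, sum_conv p w a e he, map_sum]
    exact Finset.sum_eq_zero fun S _ => d_eF p hr ι dl hL d hlog w hwk a S _
  · intro g hg s hs
    rw [sum_conv p w a e he] at hg
    have h0 := eF_cob_zero p hr ι dl hL d hd hlog w hwk a (fun S => g S.val) hg
    exact eF_indep p hr ι dl hL w hwk a (fun S => g S.val) h0
      ⟨s, Set.powersetCard.mem_iff.2 (Finset.mem_powersetCard.1 hs).2⟩

end Groth.Agent.Lib.Helper6.LogDR
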