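import Groth.Agent.Lib.Helper6.LogDR.Struct

set_option linter.unusedSectionVars false
set_option linter.unusedVariables false
set_option linter.unusedSimpArgs false
set_option autoImplicit false
set_option linter.style.haveILetI false
set_option maxHeartbeats 400000

/-!
# The logarithmic de Rham differential of affine space: Cartan calculus instantiated
-/

open exteriorPower MvPolynomial

namespace Groth.Agent.Lib.Helper6.LogDR

open Groth.Agent.Lib.Helper6.DeRhamQuot Groth.Agent.Lib.Helper6.DeRhamGen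
open Groth.Agent.Lib.Helper6.Poincare

universe u

variable {R : Type u} [CommRing R] {n r : ℕ} (hr : r ≤ n)
  {L : Type u} [AddCommGroup L] [Module (MvPolynomial (Fin n) R) L] [Module R L]
  [IsScalarTower R (MvPolynomial (Fin n) R) L]
  (ι : (Ω[MvPolynomial (Fin n) R⁄R]) →ₗ[MvPolynomial (Fin n) R] L) (dl : Fin r → L)
  (hL : LogDiff.IsLog (KaehlerDifferential.D R (MvPolynomial (Fin n) R))
      (fun i : Fin r => (MvPolynomial.X (Fin.castLE hr i) : MvPolynomial (Fin n) R)) ι dl)
  (d : ∀ q : ℕ, ↥(⋀[MvPolynomial (Fin n) R]^q L) →ₗ[R] ↥(⋀[MvPolynomial (Fin n) R]^(q + 1) L))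
  (hd : DeRham.IsDiff (ι.compDer (KaehlerDifferential.D R (MvPolynomial (Fin n) R))) d)
  (hlog : LogDiff.IsLogRule (KaehlerDifferential.D R (MvPolynomial (Fin n) R)) ι dl d)

/-- the closed generators -/
def GG : Set L :=
  {e | (∃ b, e = ι (KaehlerDifferential.D R (MvPolynomial (Fin n) R) b)) ∨ ∃ i, e = dl i}

theorem wt_mem_GG (ν : Fin n) : wt ι dl ν ∈ GG ι dl := by
  unfold wt
  split_ifs with h
  · exact Or.inr ⟨_, rfl⟩
  · exact Or.inl ⟨_, rfl⟩

include hd in
theorem hdd (q : ℕ) (z : ↥(⋀[MvPolynomial (Fin n) R]^q L)) : d (q + 1) (d q z) = 0 :=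
  LinearMap.congr_fun (hd.2 q) z

include hlog in
theorem hrule (q : ℕ) (b₀ : MvPolynomial (Fin n) R) (e : Fin q → L) (he : ∀ k, e k ∈ GG ι dl) :
    d q (b₀ • ιMulti (MvPolynomial (Fin n) R) q e)
      = ιMulti (MvPolynomial (Fin n) R) (q + 1)
          (Fin.cons ((ι.compDer (KaehlerDifferential.D R (MvPolynomial (Fin n) R))) b₀) e) :=
  hlog q b₀ e he

/-- the basis of the exterior power given by the log basis -/
noncomputable def bE (q : ℕ) :
    Module.Basis (Set.powersetCard (Fin n) q) (MvPolynomial (Fin n) R)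
      ↥(⋀[MvPolynomial (Fin n) R]^q L) :=
  (bL hr ι dl hL).exteriorPower q

theorem bE_apply (q : ℕ) (S : Set.powersetCard (Fin n) q) :
    bE hr ι dl hL q S = ιMulti (MvPolynomial (Fin n) R) q
      (fun j => wt ι dl (Finset.orderEmbOfFin S.val S.prop j)) := by
  unfold bE
  rw [exteriorPower.basis_apply]
  unfold exteriorPower.ιMulti_family
  congr 1
  funext j
  rw [Function.comp_apply, bL_apply, Set.powersetCard.ofFinEmbEquiv_symm_apply]

include hL in
theorem hgen (q : ℕ) (ζ : ↥(⋀[MvPolynomial (Fin n) R]^q L)) :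
    ζ ∈ AddSubmonoid.closure (genSet (A := MvPolynomial (Fin n) R) (GG ι dl) q) := by
  rw [← (bE hr ι dl hL q).sum_repr ζ]
  refine sum_mem fun S _ => AddSubmonoid.subset_closure ?_
  refine ⟨(bE hr ι dl hL q).repr ζ S, fun j => wt ι dl (Finset.orderEmbOfFin S.val S.prop j),
    fun k => wt_mem_GG ι dl _, ?_⟩
  rw [bE_apply]

/-- the weight of `w_μ` under `t_ν ∂_ν` -/
def nn (r : ℕ) (ν μ : Fin n) : ℕ := if μ = ν ∧ r ≤ (ν : ℕ) then 1 else 0

theorem hphi (ν μ : Fin n) :
    (ι.compDer (KaehlerDifferential.D R (MvPolynomial (Fin n) R))) (phi hr ι dl hL ν (wt ι dl μ))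
      = (nn r ν μ : MvPolynomial (Fin n) R) • wt ι dl μ := by
  rw [phi_wt]
  unfold nn
  by_cases h : μ = ν
  · subst h
    rw [if_pos rfl]
    unfold cc'
    by_cases h2 : (μ : ℕ) < r
    · rw [if_pos h2, if_neg (by simp; omega)]
      simp
    · rw [if_neg h2, if_pos ⟨rfl, by omega⟩]
      simp only [Nat.cast_one, one_smul]
      unfold wt
      rw [dif_neg h2]
      rfl
  · rw [if_neg h, if_neg (fun h' => h h'.1)]
    simp

include hd hlog in
theorem lie_phi (ν : Fin n) (q : ℕ) (s : Fin q → Fin n) (f : MvPolynomial (Fin n) R) :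
    lie d (phi hr ι dl hL ν) q (f • ιMulti (MvPolynomial (Fin n) R) q (fun j => wt ι dl (s j)))
      = (X ν * pderiv ν f + ((∑ j, nn r ν (s j) : ℕ) : MvPolynomial (Fin n) R) * f)
          • ιMulti (MvPolynomial (Fin n) R) q (fun j => wt ι dl (s j)) := by
  rw [lie_logweight (ι.compDer (KaehlerDifferential.D R (MvPolynomial (Fin n) R))) (GG ι dl) d
    (hrule ι dl d hlog) (hgen hr ι dl hL) (phi hr ι dl hL ν) (wt ι dl) (wt_mem_GG ι dl)
    (nn r ν) (hphi hr ι dl hL ν) q s f]
  congr 2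
  exact phi_iota_D hr ι dl hL ν f

include hd hlog in
theorem heig (q : ℕ) (ζ : ↥(⋀[MvPolynomial (Fin n) R]^q L)) :
    ζ ∈ AddSubmonoid.closure (eigSet d (phi hr ι dl hL) q) := by
  rw [← (bE hr ι dl hL q).sum_repr ζ]
  refine sum_mem fun S _ => ?_
  generalize (bE hr ι dl hL q).repr ζ S = c
  induction c using MvPolynomial.induction_on' with
  | monomial m a =>
    apply AddSubmonoid.subset_closure
    intro ν
    refine ⟨m ν + ∑ j, nn r ν (Finset.orderEmbOfFin S.val S.prop j), ?_⟩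
    rw [bE_apply, lie_phi hr ι dl hL d hd hlog, X_mul_pderiv_monomial, ← add_mul, ← Nat.cast_add,
      mul_smul, Nat.cast_smul_eq_nsmul]
  | add f g hf hg =>
    rw [add_smul]
    exact add_mem hf hg

end Groth.Agent.Lib.Helper6.LogDR
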