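import Groth.Agent.Lib.Helper6.LogDR.Inst
import Groth.Agent.Lib.Helper6.LogDR.Closed
import Mathlib.Data.Finset.Sort
import Mathlib.Data.Finset.Powerset

set_option linter.unusedSectionVars false
set_option linter.unusedVariables false
set_option linter.unusedSimpArgs false
set_option autoImplicit false
set_option linter.style.haveILetI false
set_option maxHeartbeats 400000

/-!
# Logarithmic de Rham cohomology of affine space in characteristic `p` (Cartier-type computation)
-/

open exteriorPower MvPolynomial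

namespace Groth.Agent.Lib.Helper6.LogDR

open Groth.Agent.Lib.Helper6.DeRhamQuot Groth.Agent.Lib.Helper6.DeRhamGen
open Groth.Agent.Lib.Helper6.Poincare

universe u

section Comb

variable {n : ℕ}

/-- exponent vector: the indicator of the entries `≥ r` of `s` -/
noncomputable def EE (r : ℕ) {q : ℕ} (s : Fin q → Fin n) : Fin n →₀ ℕ :=
  ∑ j, if r ≤ (s j : ℕ) then Finsupp.single (s j) 1 else 0

theorem EE_apply (r : ℕ) {q : ℕ} (s : Fin q → Fin n) (ν : Fin n) :
    EE r s ν = ∑ j, nn r ν (s j) := by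
  unfold EE nn
  rw [Finsupp.finsetSum_apply]
  refine Finset.sum_congr rfl fun j _ => ?_
  by_cases h1 : r ≤ (s j : ℕ)
  · rw [if_pos h1, Finsupp.single_apply]
    by_cases h2 : s j = ν
    · subst h2
      simp [h1]
    · simp [h2]
  · rw [if_neg h1]
    rw [if_neg]
    · rfl
    · rintro ⟨h, h'⟩
      subst h
      exact h1 h'

theorem EE_le_one (r : ℕ) {q : ℕ} (s : Fin q → Fin n) (hs : Function.Injective s) (ν : Fin n) :
    EE r s ν ≤ 1 := by
  rw [EE_apply]
  by_cases h : ∃ j0, s j0 = ν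
  · obtain ⟨j0, hj0⟩ := h
    rw [Finset.sum_eq_single j0]
    · unfold nn
      split_ifs <;> omega
    · intro j _ hj
      unfold nn
      rw [if_neg]
      rintro ⟨h1, _⟩
      exact hj (hs (h1.trans hj0.symm))
    · simp
  · push Not at h
    rw [Finset.sum_eq_zero]
    · omega
    · intro j _
      unfold nn
      rw [if_neg]
      rintro ⟨h1, _⟩
      exact h j h1

variable (R : Type u) [CommRing R]

/-- the coefficient `1` (`ν < r`) or `t_ν^(p-1)` (`ν ≥ r`) -/
noncomputable def kap (p r : ℕ) (ν : Fin n) : MvPolynomial (Fin n) R :=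
  if (ν : ℕ) < r then 1 else X ν ^ (p - 1)

theorem prod_kap (p r : ℕ) {q : ℕ} (s : Fin q → Fin n) :
    ∏ j, kap R p r (s j) = monomial ((p - 1) • EE r s) (1 : R) := by
  unfold EE
  rw [Finset.smul_sum, monomial_sum_one]
  refine Finset.prod_congr rfl fun j _ => ?_
  unfold kap
  by_cases h : (s j : ℕ) < r
  · rw [if_pos h, if_neg (by omega), smul_zero]
    rfl
  · rw [if_neg h, if_pos (by omega), Finsupp.smul_single, smul_eq_mul, mul_one, X_pow_eq_monomial]

end Comb

variable (p : ℕ) [Fact p.Prime] {R : Type u} [CommRing R] [CharP R p] {n r : ℕ} (hr : r ≤ n)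
  {L : Type u} [AddCommGroup L] [Module (MvPolynomial (Fin n) R) L] [Module R L]
  [IsScalarTower R (MvPolynomial (Fin n) R) L]
  (ι : (Ω[MvPolynomial (Fin n) R⁄R]) →ₗ[MvPolynomial (Fin n) R] L) (dl : Fin r → L)
  (hL : LogDiff.IsLog (KaehlerDifferential.D R (MvPolynomial (Fin n) R))
      (fun i : Fin r => (MvPolynomial.X (Fin.castLE hr i) : MvPolynomial (Fin n) R)) ι dl)
  (d : ∀ q : ℕ, ↥(⋀[MvPolynomial (Fin n) R]^q L) →ₗ[R] ↥(⋀[MvPolynomial (Fin n) R]^(q + 1) L))
  (hd : DeRham.IsDiff (ι.compDer (KaehlerDifferential.D R (MvPolynomial (Fin n) R))) d)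
  (hlog : LogDiff.IsLogRule (KaehlerDifferential.D R (MvPolynomial (Fin n) R)) ι dl d)
  (w : Fin n → L) (hwk : ∀ ν, w ν = kap R p r ν • wt ι dl ν)

/-- the forms `e_S` -/
noncomputable def eF (q : ℕ) (S : Set.powersetCard (Fin n) q) :
    ↥(⋀[MvPolynomial (Fin n) R]^q L) :=
  ιMulti (MvPolynomial (Fin n) R) q (fun j => w (Finset.orderEmbOfFin S.val S.prop j))

include hwk in
theorem eF_eq (q : ℕ) (S : Set.powersetCard (Fin n) q) :
    eF w q S = monomial ((p - 1) • EE r (Finset.orderEmbOfFin S.val S.prop)) (1 : R)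
      • bE hr ι dl hL q S := by
  unfold eF
  rw [bE_apply]
  have : (fun j => w (Finset.orderEmbOfFin S.val S.prop j))
      = fun j => kap R p r (Finset.orderEmbOfFin S.val S.prop j)
          • wt ι dl (Finset.orderEmbOfFin S.val S.prop j) := funext fun j => hwk _
  rw [this, ← prod_kap]
  exact (ιMulti (MvPolynomial (Fin n) R) q).toMultilinearMap.map_smul_univ _ _

include hd hlog in
theorem Lop_sum (ν : Fin n) (q : ℕ) (c : Set.powersetCard (Fin n) q → MvPolynomial (Fin n) R) :
    lie d (phi hr ι dl hL ν) q (∑ S, c S • bE hr ι dl hL q S)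
      = ∑ S, (X ν * pderiv ν (c S)
          + ((EE r (Finset.orderEmbOfFin S.val S.prop) ν : ℕ) : MvPolynomial (Fin n) R) * c S)
            • bE hr ι dl hL q S := by
  rw [map_sum]
  refine Finset.sum_congr rfl fun S _ => ?_
  rw [bE_apply, lie_phi hr ι dl hL d hd hlog, EE_apply]

include hd hlog hwk in
theorem kernel_char (q : ℕ) (ζ : ↥(⋀[MvPolynomial (Fin n) R]^q L))
    (hζ : ∀ ν, lie d (phi hr ι dl hL ν) q ζ = 0) :
    ∃ g : Set.powersetCard (Fin n) q → MvPolynomial (Fin n) R,
      ζ = ∑ S, expand p (g S) • eF w q S := by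
  have h1 : ∀ S : Set.powersetCard (Fin n) q, ∃ g : MvPolynomial (Fin n) R,
      (bE hr ι dl hL q).repr ζ S
        = monomial ((p - 1) • EE r (Finset.orderEmbOfFin S.val S.prop)) (1 : R) * expand p g := by
    intro S
    apply kernel_form p _ (EE_le_one r _ (Finset.orderEmbOfFin S.val S.prop).injective)
    intro ν
    have h2 := hζ ν
    rw [← (bE hr ι dl hL q).sum_repr ζ, Lop_sum hr ι dl hL d hd hlog] at h2
    have h3 := congrArg (fun z => (bE hr ι dl hL q).repr z S) h2
    simp only [Module.Basis.repr_sum_self, map_zero, Finsupp.coe_zero, Pi.zero_apply] at h3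
    exact h3
  choose g hg using h1
  refine ⟨g, ?_⟩
  conv_lhs => rw [← (bE hr ι dl hL q).sum_repr ζ]
  refine Finset.sum_congr rfl fun S _ => ?_
  rw [hg S, eF_eq p hr ι dl hL w hwk, smul_smul, mul_comm]

include hwk in
theorem sum_eF_eq (q : ℕ) (g : Set.powersetCard (Fin n) q → MvPolynomial (Fin n) R) :
    ∑ S, expand p (g S) • eF w q S
      = ∑ S, (monomial ((p - 1) • EE r (Finset.orderEmbOfFin S.val S.prop)) (1 : R)
          * expand p (g S)) • bE hr ι dl hL q S := by
  refine Finset.sum_congr rfl fun S _ => ?_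
  rw [eF_eq p hr ι dl hL w hwk, smul_smul, mul_comm]

include hd hlog hwk in
theorem lie_eF (q : ℕ) (g : Set.powersetCard (Fin n) q → MvPolynomial (Fin n) R) (ν : Fin n) :
    lie d (phi hr ι dl hL ν) q (∑ S, expand p (g S) • eF (R := R) w q S) = 0 := by
  rw [sum_eF_eq p hr ι dl hL w hwk, Lop_sum hr ι dl hL d hd hlog]
  refine Finset.sum_eq_zero fun S _ => ?_
  rw [kernel_form_conv, zero_smul]

include hL hlog hwk in
theorem w_mem_antiSet (ν : Fin n) : w ν ∈ antiSet d := by
  rw [hwk]
  unfold kap wt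
  split_ifs with h
  · rw [one_smul]
    exact mem_antiSet_of_mem (ι.compDer (KaehlerDifferential.D R (MvPolynomial (Fin n) R)))
      (GG ι dl) d (hrule ι dl d hlog) (hgen hr ι dl hL) _ (Or.inr ⟨_, rfl⟩)
  · exact pow_smul_mem_antiSet (ι.compDer (KaehlerDifferential.D R (MvPolynomial (Fin n) R)))
      (GG ι dl) d (hrule ι dl d hlog) (hgen hr ι dl hL) (X ν) (Or.inl ⟨_, rfl⟩) (p - 1)

include hL hlog hwk in
theorem d_eF (q : ℕ) (S : Set.powersetCard (Fin n) q) (g : MvPolynomial (Fin n) R) :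
    d q (expand p g • eF w q S) = 0 :=
  d_smul_ιMulti_antiSet (ι.compDer (KaehlerDifferential.D R (MvPolynomial (Fin n) R)))
    (GG ι dl) d (hrule ι dl d hlog) (hgen hr ι dl hL) q _
    (fun k => w_mem_antiSet p hr ι dl hL d hlog w hwk _) _
    (derivation_expand p (ι.compDer (KaehlerDifferential.D R (MvPolynomial (Fin n) R))) g)

include hL hwk in
theorem eF_indep (q : ℕ) (g : Set.powersetCard (Fin n) q → MvPolynomial (Fin n) R)
    (h : ∑ S, expand p (g S) • eF (R := R) w q S = 0) (S : Set.powersetCard (Fin n) q) : g S = 0 := by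
  rw [sum_eF_eq p hr ι dl hL w hwk] at h
  have h1 := Fintype.linearIndependent_iff.1 (bE hr ι dl hL q).linearIndependent _ h S
  have h2 := monomial_mul_eq_zero _ _ h1
  exact (expand_eq_zero (Fact.out : p.Prime).pos).1 h2

include hd in
theorem d_of_mem_coboundaries (a : ℕ) (η : ↥(⋀[MvPolynomial (Fin n) R]^a L))
    (h : η ∈ DeRham.coboundaries d a) : d a η = 0 := by
  cases a with
  | zero =>
    have : η = 0 := (Submodule.mem_bot R).1 h
    rw [this, map_zero]
  | succ q =>
    obtain ⟨θ, rfl⟩ := h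
    exact hdd (R := R) ι d hd q θ

include p hd hlog in
theorem exists_reduced (a : ℕ) (ω : ↥(⋀[MvPolynomial (Fin n) R]^a L)) (hω : d a ω = 0) :
    ∃ ω', ω - ω' ∈ DeRham.coboundaries d a ∧ ∀ ν, lie d (phi hr ι dl hL ν) a ω' = 0 := by
  cases a with
  | zero =>
    refine ⟨ω, ?_, fun ν => lie_closed_zero d (phi hr ι dl hL ν) ω hω⟩
    rw [sub_self]
    exact Submodule.zero_mem _
  | succ q =>
    exact ⟨red p d (phi hr ι dl hL) (List.finRange n) (q + 1) ω,
      sub_red_exact p d (hdd (R := R) ι d hd) (phi hr ι dl hL) _ q ω hω,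
      fun ν => Lop_red p d (phi hr ι dl hL) (heig hr ι dl hL d hd hlog) _ ν (List.mem_finRange ν)
        (q + 1) ω⟩

include hL hd hlog hwk in
theorem eF_cob_zero (a : ℕ) (g : Set.powersetCard (Fin n) a → MvPolynomial (Fin n) R)
    (h : ∑ S, expand p (g S) • eF (R := R) w a S ∈ DeRham.coboundaries d a) :
    ∑ S, expand p (g S) • eF (R := R) w a S = 0 := by
  cases a with
  | zero => exact (Submodule.mem_bot R).1 h
  | succ q =>
    obtain ⟨θ, hθ⟩ := h
    have h1 : red p d (phi hr ι dl hL) (List.finRange n) (q + 1)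
        (∑ S, expand p (g S) • eF w (q + 1) S) = ∑ S, expand p (g S) • eF w (q + 1) S :=
      red_eq_self p d (phi hr ι dl hL) _ _ _
        (fun μ _ => lie_eF p hr ι dl hL d hd hlog w hwk (q + 1) g μ)
    have h2 := d_red p d (hdd (R := R) ι d hd) (phi hr ι dl hL) (List.finRange n) q θ
    obtain ⟨g2, hg2⟩ := kernel_char p hr ι dl hL d hd hlog w hwk q
      (red p d (phi hr ι dl hL) (List.finRange n) q θ)
      (fun ν => Lop_red p d (phi hr ι dl hL) (heig hr ι dl hL d hd hlog) _ ν
        (List.mem_finRange ν) q θ)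
    rw [← h1, ← hθ, ← h2, hg2, map_sum]
    exact Finset.sum_eq_zero (fun S _ => d_eF p hr ι dl hL d hlog w hwk q S _)

end Groth.Agent.Lib.Helper6.LogDR
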