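import Groth.Agent.Lib.Helper6.LogDR.Cartan
import Groth.Agent.Lib.Helper6.PolyHtpy.Eigen
import Mathlib.Algebra.CharP.Frobenius

set_option linter.unusedSectionVars false
set_option linter.unusedVariables false
set_option linter.unusedSimpArgs false
set_option autoImplicit false
set_option linter.style.haveILetI false
set_option maxHeartbeats 400000

/-!
# Projectors `1 - L^(p-1)` built from commuting Lie derivatives with integer spectrum, in
characteristic `p`
-/

open exteriorPower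

namespace Groth.Agent.Lib.Helper6.LogDR

open Groth.Agent.Lib.Helper6.DeRhamQuot Groth.Agent.Lib.Helper6.DeRhamGen
open Groth.Agent.Lib.Helper6.Poincare

universe v u

variable {R : Type v} {A M : Type u} [CommRing R] [CommRing A] [Algebra R A]
  [AddCommGroup M] [Module A M] [Module R M] [IsScalarTower R A M]
  (p : ℕ) [Fact p.Prime] [CharP R p]
  (d : ∀ q : ℕ, ↥(⋀[A]^q M) →ₗ[R] ↥(⋀[A]^(q + 1) M))
  (hdd : ∀ (q : ℕ) (z : ↥(⋀[A]^q M)), d (q + 1) (d q z) = 0)
  {I : Type*} (φ : I → Module.Dual A M)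

/-- simultaneous eigenvectors with natural-number eigenvalues -/
def eigSet (q : ℕ) : Set ↥(⋀[A]^q M) :=
  {ζ | ∀ ν, ∃ N : ℕ, lie d (φ ν) q ζ = N • ζ}

variable (heig : ∀ (q : ℕ) (ζ : ↥(⋀[A]^q M)), ζ ∈ AddSubmonoid.closure (eigSet d φ q))

/-- the Lie derivative along `φ ν` as an endomorphism -/
noncomputable abbrev Lop (ν : I) (q : ℕ) : Module.End R ↥(⋀[A]^q M) := lieE d (φ ν) q

omit [Fact p.Prime] [CharP R p] in
theorem Lop_apply (ν : I) (q : ℕ) (ζ : ↥(⋀[A]^q M)) : Lop d φ ν q ζ = lie d (φ ν) q ζ := rfl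

omit [Fact p.Prime] [CharP R p] in
theorem pow_eigen (ν : I) (q : ℕ) (ζ : ↥(⋀[A]^q M)) (N : ℕ) (h : lie d (φ ν) q ζ = N • ζ)
    (j : ℕ) : (Lop d φ ν q ^ j) ζ = (N ^ j) • ζ := by
  induction j with
  | zero => simp
  | succ j ih =>
    rw [pow_succ', Module.End.mul_apply, ih, map_nsmul, Lop_apply, h, smul_smul, pow_succ]

include heig in
theorem Lop_pow_p (ν : I) (q : ℕ) (ζ : ↥(⋀[A]^q M)) :
    (Lop d φ ν q ^ p) ζ = Lop d φ ν q ζ := by
  haveI : ExpChar R p := ExpChar.prime Fact.out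
  have hmem := heig q ζ
  induction hmem using AddSubmonoid.closure_induction with
  | mem y hy =>
    obtain ⟨N, hN⟩ := hy ν
    rw [pow_eigen d φ ν q y N hN, Lop_apply, hN, ← Nat.cast_smul_eq_nsmul R,
      ← Nat.cast_smul_eq_nsmul R N]
    congr 1
    have := map_natCast (frobenius R p) N
    rw [frobenius_def] at this
    rw [Nat.cast_pow, this]
  | zero => simp
  | add y z _ _ hy hz => rw [map_add, map_add, hy, hz]

include heig in
omit [Fact p.Prime] [CharP R p] in
theorem Lop_comm (ν μ : I) (q : ℕ) (ζ : ↥(⋀[A]^q M)) :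
    Lop d φ ν q (Lop d φ μ q ζ) = Lop d φ μ q (Lop d φ ν q ζ) := by
  have hmem := heig q ζ
  induction hmem using AddSubmonoid.closure_induction with
  | mem y hy =>
    obtain ⟨N, hN⟩ := hy ν
    obtain ⟨N', hN'⟩ := hy μ
    rw [Lop_apply, Lop_apply, Lop_apply, Lop_apply, hN, hN', map_nsmul, map_nsmul, hN, hN',
      smul_smul, smul_smul, mul_comm]
  | zero => simp
  | add y z _ _ hy hz => rw [map_add, map_add, map_add, map_add, hy, hz]

include heig in
omit [Fact p.Prime] [CharP R p] in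
theorem Lop_comm_pow (ν μ : I) (q : ℕ) (j : ℕ) (ζ : ↥(⋀[A]^q M)) :
    Lop d φ ν q ((Lop d φ μ q ^ j) ζ) = (Lop d φ μ q ^ j) (Lop d φ ν q ζ) := by
  induction j generalizing ζ with
  | zero => simp
  | succ j ih =>
    rw [pow_succ, Module.End.mul_apply, Module.End.mul_apply, ih, Lop_comm d φ heig]

include hdd in
omit [Fact p.Prime] [CharP R p] in
theorem d_Lop_pow (ν : I) (q : ℕ) (j : ℕ) (ζ : ↥(⋀[A]^q M)) :
    d q ((Lop d φ ν q ^ j) ζ) = (Lop d φ ν (q + 1) ^ j) (d q ζ) := by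
  induction j generalizing ζ with
  | zero => simp
  | succ j ih =>
    rw [pow_succ, Module.End.mul_apply, ih, pow_succ, Module.End.mul_apply, Lop_apply, Lop_apply,
      d_lie' d hdd]

/-- the projector `1 - L^(p-1)` -/
noncomputable def Qop (ν : I) (q : ℕ) : Module.End R ↥(⋀[A]^q M) := 1 - Lop d φ ν q ^ (p - 1)

omit [Fact p.Prime] [CharP R p] in
theorem Qop_apply (ν : I) (q : ℕ) (ζ : ↥(⋀[A]^q M)) :
    Qop p d φ ν q ζ = ζ - (Lop d φ ν q ^ (p - 1)) ζ := by
  unfold Qop
  rw [LinearMap.sub_apply, Module.End.one_apply]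

/-- the composite of the projectors along a list of indices -/
noncomputable def red : List I → (q : ℕ) → Module.End R ↥(⋀[A]^q M)
  | [], _ => 1
  | ν :: l, q => Qop p d φ ν q * red l q

omit [Fact p.Prime] [CharP R p] in
theorem red_cons (ν : I) (l : List I) (q : ℕ) (ζ : ↥(⋀[A]^q M)) :
    red p d φ (ν :: l) q ζ = Qop p d φ ν q (red p d φ l q ζ) := rfl

include heig in
theorem Lop_Qop_self (ν : I) (q : ℕ) (ζ : ↥(⋀[A]^q M)) :
    Lop d φ ν q (Qop p d φ ν q ζ) = 0 := by
  have hp : p - 1 + 1 = p := Nat.succ_pred_eq_of_pos (Fact.out : p.Prime).pos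
  have h1 : Lop d φ ν q ((Lop d φ ν q ^ (p - 1)) ζ) = (Lop d φ ν q ^ p) ζ := by
    conv_rhs => rw [← hp, pow_succ', Module.End.mul_apply]
  rw [Qop_apply, map_sub, h1, Lop_pow_p p d φ heig, sub_self]

include heig in
omit [Fact p.Prime] [CharP R p] in
theorem Lop_Qop_comm (ν μ : I) (q : ℕ) (ζ : ↥(⋀[A]^q M)) :
    Lop d φ μ q (Qop p d φ ν q ζ) = Qop p d φ ν q (Lop d φ μ q ζ) := by
  rw [Qop_apply, Qop_apply, map_sub, Lop_comm_pow d φ heig]

include heig in
theorem Lop_red (l : List I) (μ : I) (hμ : μ ∈ l) (q : ℕ) (ζ : ↥(⋀[A]^q M)) :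
    Lop d φ μ q (red p d φ l q ζ) = 0 := by
  induction l with
  | nil => simp at hμ
  | cons ν l ih =>
    rw [red_cons]
    rcases List.mem_cons.1 hμ with h | h
    · subst h
      exact Lop_Qop_self p d φ heig μ q _
    · rw [Lop_Qop_comm p d φ heig, ih h, map_zero]

include hdd in
omit [Fact p.Prime] [CharP R p] in
theorem d_red (l : List I) (q : ℕ) (ζ : ↥(⋀[A]^q M)) :
    d q (red p d φ l q ζ) = red p d φ l (q + 1) (d q ζ) := by
  induction l generalizing ζ with
  | nil => rfl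
  | cons ν l ih =>
    rw [red_cons, red_cons, Qop_apply, Qop_apply, map_sub, d_Lop_pow d hdd, ih]

theorem red_eq_self (l : List I) (q : ℕ) (ζ : ↥(⋀[A]^q M))
    (h : ∀ μ ∈ l, Lop d φ μ q ζ = 0) : red p d φ l q ζ = ζ := by
  induction l with
  | nil => rfl
  | cons ν l ih =>
    rw [red_cons, ih (fun μ hμ => h μ (List.mem_cons_of_mem _ hμ)), Qop_apply]
    have hp : p - 1 = (p - 2) + 1 := by
      have := (Fact.out : p.Prime).two_le
      omega
    rw [hp, pow_succ, Module.End.mul_apply, h ν List.mem_cons_self, map_zero, sub_zero]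

include hdd in
omit [Fact p.Prime] [CharP R p] in
/-- positive powers of the Lie derivative of a closed form are exact -/
theorem Lop_pow_exact (ν : I) (q : ℕ) (j : ℕ) (ζ : ↥(⋀[A]^(q + 1) M)) (hζ : d (q + 1) ζ = 0) :
    (Lop d φ ν (q + 1) ^ (j + 1)) ζ ∈ LinearMap.range (d q) := by
  have hcl : d (q + 1) ((Lop d φ ν (q + 1) ^ j) ζ) = 0 := by
    rw [d_Lop_pow d hdd, hζ, map_zero]
  rw [pow_succ', Module.End.mul_apply, Lop_apply, lie_closed_succ d (φ ν) q _ hcl]
  exact LinearMap.mem_range_self _ _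

include hdd in
theorem sub_red_exact (l : List I) (q : ℕ) (ζ : ↥(⋀[A]^(q + 1) M)) (hζ : d (q + 1) ζ = 0) :
    ζ - red p d φ l (q + 1) ζ ∈ LinearMap.range (d q) := by
  induction l with
  | nil =>
    show ζ - ζ ∈ _
    rw [sub_self]
    exact Submodule.zero_mem _
  | cons ν l ih =>
    rw [red_cons, Qop_apply]
    have hcl : d (q + 1) (red p d φ l (q + 1) ζ) = 0 := by
      rw [d_red p d hdd, hζ, map_zero]
    have hp : p - 1 = (p - 2) + 1 := by
      have := (Fact.out : p.Prime).two_le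
      omega
    have h1 := Lop_pow_exact d hdd φ ν q (p - 2) _ hcl
    rw [← hp] at h1
    have : ζ - (red p d φ l (q + 1) ζ - (Lop d φ ν (q + 1) ^ (p - 1)) (red p d φ l (q + 1) ζ))
        = (ζ - red p d φ l (q + 1) ζ) + (Lop d φ ν (q + 1) ^ (p - 1)) (red p d φ l (q + 1) ζ) := by
      abel
    rw [this]
    exact Submodule.add_mem _ ih h1

end Groth.Agent.Lib.Helper6.LogDR
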