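import Mathlib.Algebra.MvPolynomial.Expand
import Mathlib.Algebra.MvPolynomial.PDeriv
import Mathlib.Algebra.CharP.Invertible
import Mathlib.RingTheory.MvPolynomial.Basic

set_option linter.unusedSectionVars false
set_option linter.unusedVariables false
set_option linter.unusedSimpArgs false
set_option autoImplicit false
set_option linter.style.haveILetI false
set_option maxHeartbeats 400000

/-!
# Polynomial lemmas for the characteristic `p` logarithmic Poincaré/Cartier computation
-/

namespace Groth.Agent.Lib.Helper6.LogDR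

open MvPolynomial

variable {R : Type*} [CommRing R] {σ : Type*}

theorem X_mul_pderiv_monomial (ν : σ) (m : σ →₀ ℕ) (c : R) :
    X ν * pderiv ν (monomial m c) = (m ν : MvPolynomial σ R) * monomial m c := by
  classical
  rw [pderiv_monomial]
  by_cases h : m ν = 0
  · simp [h]
  · have h1 : Finsupp.single ν 1 + (m - Finsupp.single ν 1) = m := by
      ext i
      by_cases hi : i = ν
      · subst hi
        simp only [Finsupp.coe_add, Finsupp.coe_tsub, Pi.add_apply, Pi.sub_apply,
          Finsupp.single_eq_same]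
        omega
      · simp [Finsupp.single_eq_of_ne hi]
    rw [X, monomial_mul, h1, one_mul, ← C_eq_coe_nat, C_mul_monomial, mul_comm]

theorem coeff_X_mul_pderiv (ν : σ) (f : MvPolynomial σ R) (m : σ →₀ ℕ) :
    coeff m (X ν * pderiv ν f) = (m ν : R) * coeff m f := by
  classical
  induction f using MvPolynomial.induction_on' with
  | monomial k c =>
    rw [X_mul_pderiv_monomial, ← C_eq_coe_nat, C_mul_monomial, coeff_monomial, coeff_monomial]
    split_ifs with h
    · rw [h]
    · simp
  | add f g hf hg =>
    rw [map_add, mul_add, coeff_add, hf, hg, coeff_add, mul_add]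

theorem natCast_mul_eq_zero (p : ℕ) [Fact p.Prime] [CharP R p] (N : ℕ) (hN : ¬ p ∣ N) (c : R)
    (h : (N : R) * c = 0) : c = 0 := by
  have hu : IsUnit (N : R) := (CharP.isUnit_natCast_iff (R := R) (p := p) Fact.out).2 hN
  exact (hu.mul_right_eq_zero).1 h

theorem monomial_mul_eq_zero (a : σ →₀ ℕ) (f : MvPolynomial σ R) (h : monomial a (1 : R) * f = 0) :
    f = 0 := by
  ext m
  have := congrArg (coeff (a + m)) h
  rw [coeff_monomial_mul, one_mul] at this
  simpa using this

/-- derivations kill `p`-th power polynomials in characteristic `p` -/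
theorem derivation_expand (p : ℕ) [Fact p.Prime] [CharP R p] {M : Type*} [AddCommGroup M]
    [Module R M] [Module (MvPolynomial σ R) M] [IsScalarTower R (MvPolynomial σ R) M]
    (δ : Derivation R (MvPolynomial σ R) M) (g : MvPolynomial σ R) : δ (expand p g) = 0 := by
  induction g using MvPolynomial.induction_on with
  | C a =>
    rw [expand_C]
    exact δ.map_algebraMap a
  | add f g hf hg => rw [map_add, map_add, hf, hg, add_zero]
  | mul_X f i hf =>
    rw [map_mul, expand_X, Derivation.leibniz, hf, smul_zero, add_zero, Derivation.leibniz_pow,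
      ← Nat.cast_smul_eq_nsmul (MvPolynomial σ R), CharP.cast_eq_zero, zero_smul, smul_zero]

/-- polynomials killed by all `X ν ∂_ν + E ν` (with `E ν ∈ {0,1}`) are `t^((p-1)E)` times a
polynomial in the `p`-th powers -/
theorem kernel_form (p : ℕ) [Fact p.Prime] [CharP R p] (E : σ →₀ ℕ) (hE : ∀ ν, E ν ≤ 1)
    (f : MvPolynomial σ R)
    (h : ∀ ν, X ν * pderiv ν f + (E ν : MvPolynomial σ R) * f = 0) :
    ∃ g : MvPolynomial σ R, f = monomial ((p - 1) • E) 1 * expand p g := by
  classical
  have hp : 0 < p := (Fact.out : p.Prime).pos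
  have key : ∀ m, coeff m f ≠ 0 → ∀ ν, p ∣ m ν + E ν := by
    intro m hm ν
    by_contra hnd
    apply hm
    apply natCast_mul_eq_zero p (m ν + E ν) hnd
    have := congrArg (coeff m) (h ν)
    rw [coeff_add, coeff_X_mul_pderiv, ← C_eq_coe_nat, coeff_C_mul, coeff_zero] at this
    push_cast
    rw [add_mul]
    exact this
  let k : (σ →₀ ℕ) → (σ →₀ ℕ) := fun m =>
    Finsupp.zipWith (fun a b => (a + b) / p - b) (by simp) m E
  refine ⟨∑ m ∈ f.support, monomial (k m) (coeff m f), ?_⟩
  rw [map_sum, Finset.mul_sum]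
  conv_lhs => rw [← support_sum_monomial_coeff f]
  refine Finset.sum_congr rfl (fun m hm => ?_)
  rw [expand_monomial, monomial_mul, one_mul]
  have hm' : coeff m f ≠ 0 := by simpa using hm
  suffices hmk : (p - 1) • E + p • k m = m by rw [hmk]
  ext ν
  obtain ⟨t, ht⟩ := key m hm' ν
  have hk : k m ν = t - E ν := by
    show Finsupp.zipWith (fun a b => (a + b) / p - b) _ m E ν = _
    rw [Finsupp.zipWith_apply, ht, Nat.mul_div_cancel_left _ hp]
  simp only [Finsupp.coe_add, Finsupp.coe_smul, Pi.add_apply, Pi.smul_apply, smul_eq_mul, hk]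
  have hE' := hE ν
  rcases Nat.eq_zero_or_pos (E ν) with h0 | h1
  · rw [h0] at ht ⊢
    simp only [mul_zero, zero_add, Nat.sub_zero]
    omega
  · have h1' : E ν = 1 := by omega
    rw [h1'] at ht ⊢
    have ht0 : t ≠ 0 := by
      rintro rfl
      simp at ht
    obtain ⟨t', rfl⟩ := Nat.exists_eq_succ_of_ne_zero ht0
    simp only [mul_one, Nat.succ_sub_one]
    rw [Nat.mul_succ] at ht
    omega

theorem kernel_form_conv (p : ℕ) [Fact p.Prime] [CharP R p] (E : σ →₀ ℕ) (g : MvPolynomial σ R)
    (ν : σ) :
    X ν * pderiv ν (monomial ((p - 1) • E) (1 : R) * expand p g)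
      + (E ν : MvPolynomial σ R) * (monomial ((p - 1) • E) (1 : R) * expand p g) = 0 := by
  have hp : 0 < p := (Fact.out : p.Prime).pos
  rw [Derivation.leibniz, derivation_expand p (pderiv ν) g, smul_zero, zero_add, smul_eq_mul,
    mul_left_comm, X_mul_pderiv_monomial]
  have : (((p - 1) • E) ν : MvPolynomial σ R) + (E ν : MvPolynomial σ R) = 0 := by
    rw [Finsupp.smul_apply, smul_eq_mul, ← Nat.cast_add]
    have : (p - 1) * E ν + E ν = p * E ν := by
      obtain ⟨q, rfl⟩ := Nat.exists_eq_succ_of_ne_zero hp.ne'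
      simp only [Nat.succ_sub_one, Nat.succ_eq_add_one]
      ring
    rw [this, Nat.cast_mul, CharP.cast_eq_zero, zero_mul]
  have e1 : expand p g * ((((p - 1) • E) ν : MvPolynomial σ R) * monomial ((p - 1) • E) (1 : R))
      + (E ν : MvPolynomial σ R) * (monomial ((p - 1) • E) (1 : R) * expand p g)
      = ((((p - 1) • E) ν : MvPolynomial σ R) + (E ν : MvPolynomial σ R))
        * (monomial ((p - 1) • E) (1 : R) * expand p g) := by ring
  rw [e1, this, zero_mul]

theorem monomial_mem_nonZeroDivisors (a : σ →₀ ℕ) :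
    monomial a (1 : R) ∈ nonZeroDivisors (MvPolynomial σ R) := by
  rw [mem_nonZeroDivisors_iff_left]
  exact fun x hx => monomial_mul_eq_zero a x hx

theorem X_mem_nonZeroDivisors (i : σ) :
    (X i : MvPolynomial σ R) ∈ nonZeroDivisors (MvPolynomial σ R) :=
  monomial_mem_nonZeroDivisors _

end Groth.Agent.Lib.Helper6.LogDR
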