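import Groth.Agent.Lib.Helper6.LogDR.Ops
import Groth.Agent.Lib.Helper6.LogDR.Poly
import Groth.Prelude.Def_LogDiff
import Groth.Prelude.Def_DeRham
import Mathlib.RingTheory.Kaehler.Polynomial
import Mathlib.LinearAlgebra.ExteriorPower.Basis

set_option linter.unusedSectionVars false
set_option linter.unusedVariables false
set_option linter.unusedSimpArgs false
set_option autoImplicit false
set_option linter.style.haveILetI false
set_option maxHeartbeats 400000

/-!
# Structure of the module of logarithmic differentials of affine space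
-/

open exteriorPower MvPolynomial

namespace Groth.Agent.Lib.Helper6.LogDR

universe u

variable {R : Type u} [CommRing R] {n r : ℕ} (hr : r ≤ n)
  {L : Type u} [AddCommGroup L] [Module (MvPolynomial (Fin n) R) L] [Module R L]
  [IsScalarTower R (MvPolynomial (Fin n) R) L]
  (ι : (Ω[MvPolynomial (Fin n) R⁄R]) →ₗ[MvPolynomial (Fin n) R] L) (dl : Fin r → L)
  (hL : LogDiff.IsLog (KaehlerDifferential.D R (MvPolynomial (Fin n) R))
      (fun i : Fin r => (MvPolynomial.X (Fin.castLE hr i) : MvPolynomial (Fin n) R)) ι dl)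

/-- the log basis `dlog t_ν` (`ν < r`), `d t_ν` (`ν ≥ r`) -/
noncomputable def wt (ν : Fin n) : L :=
  if h : (ν : ℕ) < r then dl ⟨ν, h⟩
  else ι (KaehlerDifferential.D R (MvPolynomial (Fin n) R) (X ν))

/-- `t_ν` for `ν < r`, `1` otherwise -/
noncomputable def cc (R : Type u) [CommRing R] {n : ℕ} (r : ℕ) (ν : Fin n) : MvPolynomial (Fin n) R :=
  if (ν : ℕ) < r then X ν else 1

/-- `1` for `ν < r`, `t_ν` otherwise -/
noncomputable def cc' (R : Type u) [CommRing R] {n : ℕ} (r : ℕ) (ν : Fin n) : MvPolynomial (Fin n) R :=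
  if (ν : ℕ) < r then 1 else X ν

theorem cc_mul_cc' (ν : Fin n) : cc R r ν * cc' R r ν = X ν := by
  unfold cc cc'
  split_ifs <;> simp

include hL in
theorem iota_D_X (ν : Fin n) :
    ι (KaehlerDifferential.D R (MvPolynomial (Fin n) R) (X ν)) = cc R r ν • wt ι dl ν := by
  unfold cc wt
  split_ifs with h
  · exact (hL.1 ⟨ν, h⟩).symm
  · rw [one_smul]

theorem D_eq_sum (f : MvPolynomial (Fin n) R) :
    KaehlerDifferential.D R (MvPolynomial (Fin n) R) f
      = ∑ ν, pderiv ν f • KaehlerDifferential.D R (MvPolynomial (Fin n) R) (X ν) := by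
  have := (KaehlerDifferential.mvPolynomialBasis R (Fin n)).sum_repr
    (KaehlerDifferential.D R (MvPolynomial (Fin n) R) f)
  simp only [KaehlerDifferential.mvPolynomialBasis_repr_apply,
    KaehlerDifferential.mvPolynomialBasis_apply] at this
  exact this.symm

include hL in
theorem iota_D (f : MvPolynomial (Fin n) R) :
    ι (KaehlerDifferential.D R (MvPolynomial (Fin n) R) f)
      = ∑ ν, (pderiv ν f * cc R r ν) • wt ι dl ν := by
  rw [D_eq_sum, map_sum]
  refine Finset.sum_congr rfl fun ν _ => ?_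
  rw [map_smul, iota_D_X hr ι dl hL, smul_smul]

include hL in
theorem span_wt : ⊤ ≤ Submodule.span (MvPolynomial (Fin n) R) (Set.range (wt ι dl)) := by
  rw [← hL.2.1, Submodule.span_le]
  rintro x (⟨ω, rfl⟩ | ⟨i, rfl⟩)
  · have := (KaehlerDifferential.mvPolynomialBasis R (Fin n)).sum_repr ω
    rw [← this, map_sum]
    refine Submodule.sum_mem _ fun ν _ => ?_
    rw [map_smul, KaehlerDifferential.mvPolynomialBasis_apply, iota_D_X hr ι dl hL]
    exact Submodule.smul_mem _ _ (Submodule.smul_mem _ _ (Submodule.subset_span ⟨ν, rfl⟩))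
  · apply Submodule.subset_span
    refine ⟨Fin.castLE hr i, ?_⟩
    unfold wt
    rw [dif_pos (by simp : ((Fin.castLE hr i : Fin n) : ℕ) < r)]
    rfl

include hL in
theorem linInd_wt : LinearIndependent (MvPolynomial (Fin n) R) (wt ι dl) := by
  classical
  rw [Fintype.linearIndependent_iff]
  intro c hc ν
  set T : MvPolynomial (Fin n) R := ∏ i : Fin r, X (Fin.castLE hr i) with hT
  have hTmem : T ∈ nonZeroDivisors (MvPolynomial (Fin n) R) :=
    Submonoid.prod_mem _ (fun i _ => X_mem_nonZeroDivisors _)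
  have hu : ∀ μ : Fin n, ∃ u : MvPolynomial (Fin n) R,
      u ∈ nonZeroDivisors (MvPolynomial (Fin n) R) ∧
      T • wt ι dl μ = ι (u • KaehlerDifferential.D R (MvPolynomial (Fin n) R) (X μ)) := by
    intro μ
    by_cases h : (μ : ℕ) < r
    · refine ⟨∏ x ∈ (Finset.univ : Finset (Fin r)).erase ⟨μ, h⟩, X (Fin.castLE hr x),
        Submonoid.prod_mem _ (fun i _ => X_mem_nonZeroDivisors _), ?_⟩
      have h1 : T = (∏ x ∈ (Finset.univ : Finset (Fin r)).erase ⟨μ, h⟩, X (Fin.castLE hr x))
          * X (Fin.castLE hr ⟨μ, h⟩) := by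
        rw [hT, Finset.prod_erase_mul _ _ (Finset.mem_univ _)]
      have h2 : wt ι dl μ = dl ⟨μ, h⟩ := by
        unfold wt
        rw [dif_pos h]
      rw [h1, mul_smul, h2, hL.1 ⟨μ, h⟩, map_smul]
      rfl
    · refine ⟨T, hTmem, ?_⟩
      have h2 : wt ι dl μ = ι (KaehlerDifferential.D R (MvPolynomial (Fin n) R) (X μ)) := by
        unfold wt
        rw [dif_neg h]
      rw [h2, map_smul]
  choose u hu1 hu2 using hu
  have h1 : ι (∑ μ, (c μ * u μ) • KaehlerDifferential.D R (MvPolynomial (Fin n) R) (X μ)) = 0 := by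
    rw [map_sum]
    have : ∑ μ, ι ((c μ * u μ) • KaehlerDifferential.D R (MvPolynomial (Fin n) R) (X μ))
        = T • ∑ μ, c μ • wt ι dl μ := by
      rw [Finset.smul_sum]
      refine Finset.sum_congr rfl fun μ _ => ?_
      rw [mul_smul, map_smul, ← hu2, smul_comm]
    rw [this, hc, smul_zero]
  obtain ⟨N, hN⟩ := (hL.2.2.2 _).1 h1
  have h3 : T ^ N • ∑ μ, (c μ * u μ) • KaehlerDifferential.D R (MvPolynomial (Fin n) R) (X μ)
      = ∑ μ, (T ^ N * (c μ * u μ)) • (KaehlerDifferential.mvPolynomialBasis R (Fin n)) μ := by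
    rw [Finset.smul_sum]
    refine Finset.sum_congr rfl fun μ _ => ?_
    rw [smul_smul, KaehlerDifferential.mvPolynomialBasis_apply]
  have hN' : (∏ i : Fin r, (fun i : Fin r => (X (Fin.castLE hr i) : MvPolynomial (Fin n) R)) i) = T := rfl
  rw [hN', h3] at hN
  have h4 := congrArg (fun ω => (KaehlerDifferential.mvPolynomialBasis R (Fin n)).repr ω ν) hN
  simp only [Module.Basis.repr_sum_self, map_zero, Finsupp.coe_zero, Pi.zero_apply] at h4
  have h5 : c ν * u ν = 0 :=
    (mul_left_mem_nonZeroDivisors_eq_zero_iff (pow_mem hTmem N)).1 h4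
  exact (mul_right_mem_nonZeroDivisors_eq_zero_iff (hu1 ν)).1 h5

/-- the log basis as a basis -/
noncomputable def bL : Module.Basis (Fin n) (MvPolynomial (Fin n) R) L :=
  Module.Basis.mk (linInd_wt hr ι dl hL) (span_wt hr ι dl hL)

theorem bL_apply (ν : Fin n) : bL hr ι dl hL ν = wt ι dl ν := by
  unfold bL
  rw [Module.Basis.mk_apply]

/-- the logarithmic vector fields `t_ν ∂_ν` as linear forms on the log differentials -/
noncomputable def phi (ν : Fin n) : Module.Dual (MvPolynomial (Fin n) R) L :=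
  cc' R r ν • (bL hr ι dl hL).coord ν

theorem phi_wt (ν μ : Fin n) :
    phi hr ι dl hL ν (wt ι dl μ) = if μ = ν then cc' R r ν else 0 := by
  unfold phi
  rw [LinearMap.smul_apply, ← bL_apply hr ι dl hL μ, Module.Basis.coord_apply,
    Module.Basis.repr_self, Finsupp.single_apply]
  split_ifs <;> simp

theorem phi_iota_D (ν : Fin n) (f : MvPolynomial (Fin n) R) :
    phi hr ι dl hL ν (ι (KaehlerDifferential.D R (MvPolynomial (Fin n) R) f))
      = X ν * pderiv ν f := by
  classical
  rw [iota_D hr ι dl hL, map_sum]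
  simp only [map_smul, phi_wt, smul_eq_mul, mul_ite, mul_zero]
  rw [Finset.sum_ite_eq' Finset.univ ν]
  simp only [Finset.mem_univ, if_true]
  rw [mul_assoc, cc_mul_cc', mul_comm]

end Groth.Agent.Lib.Helper6.LogDR
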